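import Mathlib
import Groth.Prelude.Def_StCurv2

/-!
# Geometric fibres of the classifying object of a scheme over a field (helper5)
-/

set_option autoImplicit false
universe u
open CategoryTheory CategoryTheory.Limits AlgebraicGeometry

namespace Groth.Agent.Lib.Helper5.GFib

variable {S : Scheme.{u}}

theorem isPullback_left_of_yon' {A B C D : Over S} {f : A ⟶ B} {g : A ⟶ C} {h : B ⟶ D} {i : C ⟶ D}
    (sq : IsPullback ((AlgSp.yon S).map f) ((AlgSp.yon S).map g) ((AlgSp.yon S).map h)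
      ((AlgSp.yon S).map i)) :
    IsPullback f.left g.left h.left i.left := by
  have h1 : IsPullback f g h i :=
    IsPullback.of_map (AlgSp.yon S) ((AlgSp.yon S).map_injective (by
      rw [Functor.map_comp, Functor.map_comp]; exact sq.w)) sq
  exact h1.map (Over.forget S)

variable (S) (k : Type u) [Field k] (t : Spec (CommRingCat.of k) ⟶ S) (X : Scheme.{u})
  (p : X ⟶ Spec (CommRingCat.of k))

/-- the geometric fibres of the classifying object of `X / k` are the base changes of `X` to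
algebraically closed extensions -/
theorem geomFib_iff (P : ∀ (Ω : Type u) [Field Ω] [IsAlgClosed Ω] (X' : Scheme.{u}),
    (X' ⟶ Spec (CommRingCat.of Ω)) → Prop) :
    CurvSt.GeomFib (fun Ω _ _ X' q _ => P Ω X' q)
      ((CurvSt.toSpFam S 0).obj ⟨Over.mk t, X, p, Fin.elim0, fun i => i.elim0⟩) ↔
    ∀ (Ω : Type u) [Field Ω] [IsAlgClosed Ω]
      (t' : Spec (CommRingCat.of Ω) ⟶ Spec (CommRingCat.of k)) (X' : Scheme.{u})
      (q : X' ⟶ Spec (CommRingCat.of Ω)) (i₀ : X' ⟶ X), IsPullback i₀ q p t' → P Ω X' q := by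
  constructor
  · intro h Ω _ _ t' X' q i₀ sq
    let A₀ : CurvSt.PtFamObj S 0 := ⟨Over.mk t, X, p, Fin.elim0, fun i => i.elim0⟩
    let A : CurvSt.SpFamObj S 0 := (CurvSt.toSpFam S 0).obj A₀
    let I : A.ptOver (q ≫ t') ⟶ A₀.totOver := Over.homMk i₀ (by
      show i₀ ≫ (p ≫ t) = (q ≫ t') ≫ t
      rw [← Category.assoc, sq.w, Category.assoc])
    have h1 : IsPullback I (A.fibHom t' q) A₀.fOver (A.ptHom t') :=
      IsPullback.of_map (Over.forget S) (Over.OverMorphism.ext sq.w) sq
    exact h Ω t' X' q ((AlgSp.yon S).map I) (h1.map (AlgSp.yon S))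
  · intro H Ω _ _ t' X' q i hP
    let A₀ : CurvSt.PtFamObj S 0 := ⟨Over.mk t, X, p, Fin.elim0, fun i => i.elim0⟩
    let A : CurvSt.SpFamObj S 0 := (CurvSt.toSpFam S 0).obj A₀
    let I : A.ptOver (q ≫ t') ⟶ A₀.totOver := (AlgSp.yon S).preimage i
    have hI : (AlgSp.yon S).map I = i := (AlgSp.yon S).map_preimage i
    have hP' : IsPullback ((AlgSp.yon S).map I) ((AlgSp.yon S).map (A.fibHom t' q))
        ((AlgSp.yon S).map A₀.fOver) ((AlgSp.yon S).map (A.ptHom t')) := by
      rw [hI]; exact hP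
    exact H Ω t' X' q I.left (isPullback_left_of_yon' hP')

end Groth.Agent.Lib.Helper5.GFib
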