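import Mathlib
import Groth.Prelude.Def_StCurv2
import Groth.Agent.Lib.Helper5.GFib.Basic

/-!
# Geometric reducedness through algebraically closed extensions (helper5)
-/

set_option autoImplicit false
universe u
open CategoryTheory CategoryTheory.Limits AlgebraicGeometry

namespace Groth.Agent.Lib.Helper5.GFib

/-- reducedness descends along flat surjective morphisms -/
theorem isReduced_of_flat_of_surjective {Z' Z : Scheme.{u}} (g : Z' ⟶ Z) [Flat g] [Surjective g]
    [IsReduced Z'] : IsReduced Z := by
  apply +allowSynthFailures isReduced_of_isReduced_stalk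
  intro z
  obtain ⟨z', rfl⟩ := g.surjective z
  have hfl : (g.stalkMap z').hom.Flat := Flat.stalkMap g z'
  letI := (g.stalkMap z').hom.toAlgebra
  haveI : Module.Flat (Z.presheaf.stalk (g z')) (Z'.presheaf.stalk z') := hfl
  haveI : IsLocalHom (algebraMap (Z.presheaf.stalk (g z')) (Z'.presheaf.stalk z')) :=
    inferInstanceAs (IsLocalHom (g.stalkMap z').hom)
  haveI := Module.FaithfullyFlat.of_flat_of_isLocalHom
    (A := Z.presheaf.stalk (g z')) (B := Z'.presheaf.stalk z')
  exact isReduced_of_injective (algebraMap (Z.presheaf.stalk (g z')) (Z'.presheaf.stalk z'))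
    (FaithfulSMul.algebraMap_injective _ _)

/-- the spectrum of a field extension is flat and surjective over the spectrum of the field -/
theorem flat_surjective_Spec_field (K Ω : Type u) [Field K] [Field Ω] [Algebra K Ω] :
    Flat (Spec.map (CommRingCat.ofHom (algebraMap K Ω))) ∧
      Surjective (Spec.map (CommRingCat.ofHom (algebraMap K Ω))) := by
  constructor
  · rw [HasRingHomProperty.Spec_iff (P := @Flat)]
    exact (RingHom.flat_algebraMap_iff (R := K) (S := Ω)).2 inferInstance
  · refine ⟨fun x => ?_⟩
    obtain ⟨y⟩ : Nonempty ↥(Spec (CommRingCat.of Ω)) := inferInstance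
    exact ⟨y, Subsingleton.elim _ _⟩

/-- a property that descends along flat surjective morphisms holds geometrically as soon as it
holds after base change to algebraically closed fields -/
theorem geometrically_of_algClosed (P : ObjectProperty Scheme.{u})
    (hP : ∀ {Z' Z : Scheme.{u}} (g : Z' ⟶ Z) [Flat g] [Surjective g], P Z' → P Z)
    {X Y : Scheme.{u}} (p : X ⟶ Y)
    (H : ∀ (Ω : Type u) [Field Ω] [IsAlgClosed Ω] (t' : Spec (CommRingCat.of Ω) ⟶ Y)
      (X' : Scheme.{u}) (q : X' ⟶ Spec (CommRingCat.of Ω)) (i₀ : X' ⟶ X),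
      IsPullback i₀ q p t' → P X') : geometrically P p := by
  intro K _ y Z fst snd h
  let Ω := AlgebraicClosure K
  let s : Spec (CommRingCat.of Ω) ⟶ Spec (CommRingCat.of K) :=
    Spec.map (CommRingCat.ofHom (algebraMap K Ω))
  obtain ⟨hs1, hs2⟩ := flat_surjective_Spec_field K Ω
  haveI : Flat s := hs1
  haveI : Surjective s := hs2
  have sq1 : IsPullback (pullback.fst snd s) (pullback.snd snd s) snd s := IsPullback.of_hasPullback _ _
  have sq := sq1.paste_horiz h
  have h1 := H Ω (s ≫ y) _ _ _ sq
  exact hP (pullback.fst snd s) h1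

section Main

variable (S : Scheme.{u}) (k : Type u) [Field k] (t : Spec (CommRingCat.of k) ⟶ S) (X : Scheme.{u})
  (p : X ⟶ Spec (CommRingCat.of k))

theorem main_S17309 :
    CurvSt.GeomFib (fun _ _ _ X' _ _ => IsReduced X')
      ((CurvSt.toSpFam S 0).obj ⟨Over.mk t, X, p, Fin.elim0, fun i => i.elim0⟩) ↔
      GeometricallyReduced p := by
  rw [geomFib_iff S k t X p (fun _ _ _ X' _ => IsReduced X')]
  constructor
  · intro H
    refine ⟨geometrically_of_algClosed (fun Z => IsReduced Z) ?_ p H⟩
    intro Z' Z g _ _ hZ'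
    haveI : IsReduced Z' := hZ'
    exact isReduced_of_flat_of_surjective g
  · intro hgr Ω _ _ t' X' q i₀ sq
    exact hgr.geometrically_isReduced t' i₀ q sq

end Main

end Groth.Agent.Lib.Helper5.GFib
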