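import Mathlib
import Groth.Prelude.Def_StCurv2
import Groth.Agent.Lib.Helper5.GFib.Red
import Groth.Agent.Lib.Helper2.Sch.FieldBCDim

/-!
# Geometrically reduced and connected of dimension one through algebraically closed extensions
(helper5)
-/

set_option autoImplicit false
universe u
open CategoryTheory CategoryTheory.Limits AlgebraicGeometry

namespace Groth.Agent.Lib.Helper5.GFib

/-- the dimension is invariant under extension of the ground field (arbitrary pullback square) -/
theorem dim_of_isPullback {k Ω : Type u} [Field k] [Field Ω] {X X' : Scheme.{u}}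
    (p : X ⟶ Spec (CommRingCat.of k)) [LocallyOfFiniteType p]
    (t' : Spec (CommRingCat.of Ω) ⟶ Spec (CommRingCat.of k)) (q : X' ⟶ Spec (CommRingCat.of Ω))
    (i₀ : X' ⟶ X) (sq : IsPullback i₀ q p t') :
    topologicalKrullDim ↥X' = topologicalKrullDim ↥X := by
  obtain ⟨φ, rfl⟩ := Spec.map_surjective t'
  algebraize [φ.hom]
  have e : X' ≅ FBase.bc p Ω := sq.isoPullback
  rw [← Groth.Agent.Helper2.FieldBCDim.S4642_main (K := Ω) p]
  exact IsHomeomorph.topologicalKrullDim_eq _ (Scheme.homeoOfIso e).isHomeomorph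

section Main

variable (S : Scheme.{u}) (k : Type u) [Field k] (t : Spec (CommRingCat.of k) ⟶ S) (X : Scheme.{u})
  (p : X ⟶ Spec (CommRingCat.of k))

theorem main_S17310 [LocallyOfFiniteType p] :
    CurvSt.GeomFib (fun _ _ _ X' _ _ => IsReduced X' ∧ ConnectedSpace ↥X' ∧
        topologicalKrullDim ↥X' = 1)
      ((CurvSt.toSpFam S 0).obj ⟨Over.mk t, X, p, Fin.elim0, fun i => i.elim0⟩) ↔
      GeometricallyReduced p ∧ GeometricallyConnected p ∧ topologicalKrullDim ↥X = 1 := by
  rw [geomFib_iff S k t X p (fun _ _ _ X' _ => IsReduced X' ∧ ConnectedSpace ↥X' ∧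
    topologicalKrullDim ↥X' = 1)]
  constructor
  · intro H
    refine ⟨⟨geometrically_of_algClosed (fun Z => IsReduced Z) ?_ p
      (fun Ω _ _ t' X' q i₀ sq => (H Ω t' X' q i₀ sq).1)⟩,
      ⟨geometrically_of_algClosed (fun Z => ConnectedSpace ↥Z) ?_ p
      (fun Ω _ _ t' X' q i₀ sq => (H Ω t' X' q i₀ sq).2.1)⟩, ?_⟩
    · intro Z' Z g _ _ hZ'
      haveI : IsReduced Z' := hZ'
      exact isReduced_of_flat_of_surjective g
    · intro Z' Z g _ _ hZ'
      haveI : ConnectedSpace ↥Z' := hZ'
      exact Function.Surjective.connectedSpace g.surjective g.continuous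
    · let Ω := AlgebraicClosure k
      let s : Spec (CommRingCat.of Ω) ⟶ Spec (CommRingCat.of k) :=
        Spec.map (CommRingCat.ofHom (algebraMap k Ω))
      have sq : IsPullback (pullback.fst p s) (pullback.snd p s) p s := IsPullback.of_hasPullback _ _
      rw [← dim_of_isPullback p s _ _ sq]
      exact (H Ω s _ _ _ sq).2.2
  · rintro ⟨hgr, hgc, hd⟩ Ω _ _ t' X' q i₀ sq
    refine ⟨hgr.geometrically_isReduced t' i₀ q sq, hgc.geometrically_connectedSpace t' i₀ q sq, ?_⟩
    rw [dim_of_isPullback p t' q i₀ sq]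
    exact hd

end Main

end Groth.Agent.Lib.Helper5.GFib
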