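import Mathlib
import Groth.Prelude.Def_StCurv2
import Groth.Agent.Lib.Helper5.GFib.Red

/-!
# Finiteness of the non-smooth locus through algebraically closed extensions (helper5)
-/

set_option autoImplicit false
universe u
open CategoryTheory CategoryTheory.Limits AlgebraicGeometry

namespace Groth.Agent.Lib.Helper5.GFib

theorem lfp_of_noeth {X Y : Scheme.{u}} (f : X ⟶ Y)
    [LocallyOfFiniteType f] [IsLocallyNoetherian Y] : LocallyOfFinitePresentation f :=
  ⟨fun {U} hU {V} hV e => by
    haveI : IsNoetherianRing Γ(Y, U) := IsLocallyNoetherian.component_noetherian ⟨U, hU⟩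
    exact RingHom.FinitePresentation.of_finiteType.1 (f.finiteType_appLE hU hV e)⟩

/-- the smooth locus, as the union of the opens over which the morphism is smooth -/
theorem mem_smoothLocus_iff {X Y : Scheme.{u}} (p : X ⟶ Y) [LocallyOfFinitePresentation p] (x : X) :
    (∃ U : X.Opens, x ∈ U ∧ Smooth (U.ι ≫ p)) ↔ x ∈ p.smoothLocus := by
  constructor
  · rintro ⟨U, hxU, hU⟩
    have h1 : (U.ι ≫ p).smoothLocus = ⊤ := Scheme.Hom.smoothLocus_eq_top _
    rw [← Scheme.Hom.preimage_smoothLocus_eq] at h1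
    have h2 : (⟨x, hxU⟩ : U) ∈ U.ι ⁻¹ᵁ p.smoothLocus := by rw [h1]; trivial
    exact h2
  · intro hx
    refine ⟨p.smoothLocus, hx, ?_⟩
    rw [← Scheme.Hom.smoothLocus_eq_top_iff, ← Scheme.Hom.preimage_smoothLocus_eq]
    exact Scheme.Opens.ι_preimage_self _

/-- restriction of a pullback square to an open of the top right corner -/
theorem isPullback_restrict {X X' Y Y' : Scheme.{u}} (i₀ : X' ⟶ X) (q : X' ⟶ Y') (p : X ⟶ Y)
    (t' : Y' ⟶ Y) (sq : IsPullback i₀ q p t') (U : X.Opens) :
    IsPullback ((i₀ ⁻¹ᵁ U).ι ≫ q) (i₀ ∣_ U) t' (U.ι ≫ p) :=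
  ((isPullback_morphismRestrict i₀ U).paste_vert sq).flip

/-- a finite closed subset of a Jacobson space consists of closed points -/
theorem isClosed_singleton_of_finite_closed {T : Type*} [TopologicalSpace T] [JacobsonSpace T]
    {C : Set T} (hC : IsClosed C) (hfin : C.Finite) {x : T} (hx : x ∈ C) : IsClosed ({x} : Set T) := by
  have h1 := closure_inter_closedPoints hC
  have hfin' : (C ∩ closedPoints T).Finite := hfin.subset Set.inter_subset_left
  have hcl : IsClosed (C ∩ closedPoints T) := by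
    have h2 : C ∩ closedPoints T = ⋃ y ∈ C ∩ closedPoints T, {y} :=
      (Set.biUnion_of_singleton _).symm
    rw [h2]
    exact hfin'.isClosed_biUnion (fun y hy => hy.2)
  rw [hcl.closure_eq] at h1
  have h3 : x ∈ C ∩ closedPoints T := by rw [h1]; exact hx
  exact h3.2

section Field

variable {k Ω : Type u} [Field k] [Field Ω] {X X' : Scheme.{u}}
  (p : X ⟶ Spec (CommRingCat.of k)) [LocallyOfFiniteType p]
  (t' : Spec (CommRingCat.of Ω) ⟶ Spec (CommRingCat.of k)) (q : X' ⟶ Spec (CommRingCat.of Ω))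
  (i₀ : X' ⟶ X) (sq : IsPullback i₀ q p t')

include sq in
/-- the fibre of a field base change over a closed point is finite -/
theorem finite_preimage_of_closed (x : X) (hx : IsClosed ({x} : Set X)) :
    (i₀ ⁻¹' {x}).Finite := by
  haveI : JacobsonSpace ↥(Spec (CommRingCat.of k)) :=
    PrimeSpectrum.isJacobsonRing_iff_jacobsonSpace.mp inferInstance
  haveI : JacobsonSpace X := LocallyOfFiniteType.jacobsonSpace p
  let F := X.fromSpecResidueField x
  haveI : LocallyOfFiniteType F := isClosed_singleton_iff_locallyOfFiniteType.mp hx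
  haveI : IsFinite (F ≫ p) := isFinite_iff_locallyOfFiniteType_of_jacobsonSpace.mpr inferInstance
  have sq1 : IsPullback (pullback.fst F i₀) (pullback.snd F i₀) F i₀ := IsPullback.of_hasPullback _ _
  have sq2 := sq1.paste_vert sq
  haveI : IsFinite (pullback.snd F i₀ ≫ q) := MorphismProperty.of_isPullback sq2 inferInstance
  obtain ⟨pt⟩ : Nonempty ↥(Spec (CommRingCat.of Ω)) := inferInstance
  have hfin := Scheme.Hom.finite_preimage_singleton (pullback.snd F i₀ ≫ q) pt
  have huniv : (pullback.snd F i₀ ≫ q) ⁻¹' {pt} = Set.univ := by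
    ext v
    simp only [Set.mem_preimage, Set.mem_singleton_iff, Set.mem_univ, iff_true]
    exact Subsingleton.elim _ _
  rw [huniv] at hfin
  have hr : i₀ ⁻¹' {x} = Set.range (pullback.snd F i₀) := by
    rw [Scheme.Pullback.range_snd, Scheme.range_fromSpecResidueField]
  rw [hr, ← Set.image_univ]
  exact hfin.image _

include sq in
/-- the non-smooth locus of the base change lies over the non-smooth locus -/
theorem nonsmooth_subset_preimage :
    {x' : ↥X' | ¬ ∃ U : X'.Opens, x' ∈ U ∧ Smooth (U.ι ≫ q)} ⊆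
      i₀ ⁻¹' {x : ↥X | ¬ ∃ U : X.Opens, x ∈ U ∧ Smooth (U.ι ≫ p)} := by
  intro x' hx' hcon
  obtain ⟨U, hxU, hU⟩ := hcon
  exact hx' ⟨i₀ ⁻¹ᵁ U, hxU,
    MorphismProperty.of_isPullback (isPullback_restrict i₀ q p t' sq U).flip hU⟩

end Field

end Groth.Agent.Lib.Helper5.GFib
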