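import Mathlib
import Groth.Prelude.Def_StCurv2
import Groth.Agent.Lib.Helper5.GFib.NS

/-!
# S17311: finiteness of the non-smooth locus of the geometric fibres (helper5)
-/

set_option autoImplicit false
universe u
open CategoryTheory CategoryTheory.Limits AlgebraicGeometry

namespace Groth.Agent.Lib.Helper5.GFib

theorem nonsmooth_eq_compl {X Y : Scheme.{u}} (p : X ⟶ Y) [LocallyOfFinitePresentation p] :
    {x : ↥X | ¬ ∃ U : X.Opens, x ∈ U ∧ Smooth (U.ι ≫ p)} = (p.smoothLocus : Set ↥X)ᶜ := by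
  ext x
  rw [Set.mem_ofPred_eq, mem_smoothLocus_iff]
  rfl

variable (S : Scheme.{u}) (k : Type u) [Field k] (t : Spec (CommRingCat.of k) ⟶ S) (X : Scheme.{u})
  (p : X ⟶ Spec (CommRingCat.of k))

theorem main_S17311 [LocallyOfFiniteType p] :
    CurvSt.GeomFib (fun _ _ _ X' q _ =>
        Set.Finite {x : ↥X' | ¬ ∃ U : X'.Opens, x ∈ U ∧ Smooth (U.ι ≫ q)})
      ((CurvSt.toSpFam S 0).obj ⟨Over.mk t, X, p, Fin.elim0, fun i => i.elim0⟩) ↔
      Set.Finite {x : ↥X | ¬ ∃ U : X.Opens, x ∈ U ∧ Smooth (U.ι ≫ p)} := by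
  rw [geomFib_iff S k t X p (fun _ _ _ X' q =>
    Set.Finite {x : ↥X' | ¬ ∃ U : X'.Opens, x ∈ U ∧ Smooth (U.ι ≫ q)})]
  haveI : LocallyOfFinitePresentation p := lfp_of_noeth p
  constructor
  · intro H
    let Ω := AlgebraicClosure k
    let s : Spec (CommRingCat.of Ω) ⟶ Spec (CommRingCat.of k) :=
      Spec.map (CommRingCat.ofHom (algebraMap k Ω))
    obtain ⟨hs1, hs2⟩ := flat_surjective_Spec_field k Ω
    have sq : IsPullback (pullback.fst p s) (pullback.snd p s) p s := IsPullback.of_hasPullback _ _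
    have hfin := H Ω s _ _ _ sq
    haveI : LocallyOfFinitePresentation (pullback.snd p s) :=
      MorphismProperty.pullback_snd _ _ inferInstance
    haveI : IsIntegralHom s := by
      rw [IsIntegralHom.SpecMap_iff]
      exact algebraMap_isIntegral_iff.mpr inferInstance
    have hcl : IsClosedMap (pullback.fst p s) := (pullback.fst p s).isClosedMap
    rw [nonsmooth_eq_compl] at hfin ⊢
    refine (hfin.image (pullback.fst p s)).subset ?_
    intro x hx
    by_contra hni
    apply hx
    let V : X.Opens := ⟨((pullback.fst p s) '' ((pullback.snd p s).smoothLocus : Set _)ᶜ)ᶜ,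
      (hcl _ ((pullback.snd p s).smoothLocus.isOpen.isClosed_compl)).isOpen_compl⟩
    have hxV : x ∈ V := hni
    have hle : (pullback.fst p s) ⁻¹ᵁ V ≤ (pullback.snd p s).smoothLocus := by
      intro x' hx'
      by_contra h
      exact hx' ⟨x', h, rfl⟩
    have hsm : Smooth (((pullback.fst p s) ⁻¹ᵁ V).ι ≫ pullback.snd p s) := by
      rw [← Scheme.Hom.smoothLocus_eq_top_iff, ← Scheme.Hom.preimage_smoothLocus_eq, eq_top_iff]
      intro y _
      exact hle y.2
    have hQ : (@Surjective ⊓ @Flat ⊓ @QuasiCompact : MorphismProperty Scheme.{u}) s :=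
      ⟨⟨hs2, hs1⟩, inferInstance⟩
    have hV : Smooth (V.ι ≫ p) :=
      MorphismProperty.of_isPullback_of_descendsAlong (P := @Smooth)
        (Q := (@Surjective ⊓ @Flat ⊓ @QuasiCompact : MorphismProperty Scheme.{u}))
        (isPullback_restrict (pullback.fst p s) (pullback.snd p s) p s sq V) hQ hsm
    exact (mem_smoothLocus_iff p x).1 ⟨V, hxV, hV⟩
  · intro hfin Ω _ _ t' X' q i₀ sq
    have hclosed : IsClosed {x : ↥X | ¬ ∃ U : X.Opens, x ∈ U ∧ Smooth (U.ι ≫ p)} := by
      rw [nonsmooth_eq_compl]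
      exact p.smoothLocus.isOpen.isClosed_compl
    haveI : JacobsonSpace ↥(Spec (CommRingCat.of k)) :=
      PrimeSpectrum.isJacobsonRing_iff_jacobsonSpace.mp inferInstance
    haveI : JacobsonSpace X := LocallyOfFiniteType.jacobsonSpace p
    refine Set.Finite.subset ?_ (nonsmooth_subset_preimage p t' q i₀ sq)
    exact hfin.preimage' (fun x hx => finite_preimage_of_closed p t' q i₀ sq x
      (isClosed_singleton_of_finite_closed hclosed hfin hx))

end Groth.Agent.Lib.Helper5.GFib
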